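import Cfsg.Agent.Mult93.Sz8Cocycle
import Cfsg.Prelude.Def_KGroupFacts

/-!
The cover `2².Sz(8)` as a central extension by the corestricted cocycle (helper93).
-/

set_option autoImplicit false

namespace Cfsg.Agent.Mult93.Sz8

open Cfsg.Agent
open scoped commutatorElement

universe u v w

/-- The central extension attached to a normalised cocycle. -/
@[ext]
structure Ext {G : Type u} {A : Type v} [Group G] [AddCommGroup A] (c : G → G → A) where
  /-- the central coordinate -/
  a : A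
  /-- the image in the quotient -/
  g : G

section ext

variable {G : Type u} {A : Type v} [Group G] [AddCommGroup A] (c : G → G → A)
  (h1 : ∀ g, c 1 g = 0) (h2 : ∀ g, c g 1 = 0)
  (h3 : ∀ g h k, c g h + c (g * h) k = c g (h * k) + c h k)

/-- The group law of the extension. -/
@[reducible]
def extGroup : Group (Ext c) :=
  letI : Mul (Ext c) := ⟨fun x y => ⟨x.a + y.a + c x.g y.g, x.g * y.g⟩⟩
  letI : One (Ext c) := ⟨⟨0, 1⟩⟩
  letI : Inv (Ext c) := ⟨fun x => ⟨-x.a - c x.g⁻¹ x.g, x.g⁻¹⟩⟩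
  Group.ofLeftAxioms
    (fun x y z => by
      refine Ext.ext ?_ (mul_assoc _ _ _)
      show (x.a + y.a + c x.g y.g) + z.a + c (x.g * y.g) z.g =
        x.a + (y.a + z.a + c y.g z.g) + c x.g (y.g * z.g)
      have := h3 x.g y.g z.g
      calc (x.a + y.a + c x.g y.g) + z.a + c (x.g * y.g) z.g
          = x.a + y.a + z.a + (c x.g y.g + c (x.g * y.g) z.g) := by abel
        _ = x.a + y.a + z.a + (c x.g (y.g * z.g) + c y.g z.g) := by rw [this]
        _ = _ := by abel)
    (fun x => by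
      refine Ext.ext ?_ (one_mul _)
      show 0 + x.a + c 1 x.g = x.a
      rw [h1]; abel)
    (fun x => by
      refine Ext.ext ?_ (inv_mul_cancel _)
      show -x.a - c x.g⁻¹ x.g + x.a + c x.g⁻¹ x.g = 0
      abel)

instance [Finite G] [Finite A] : Finite (Ext c) :=
  Finite.of_injective (fun x => (x.a, x.g)) fun x y h =>
    Ext.ext (congrArg Prod.fst h) (congrArg Prod.snd h)

include h1 h2 h3 in
/-- A normalised cocycle whose commutator pairing on commuting pairs is onto gives a stem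
extension with that kernel. -/
theorem exists_stem [Finite G] [Finite A]
    (hκ : ∀ a : A, ∃ x y : G, x * y = y * x ∧ c x y = a + c y x) :
    ∃ (Γ : Type (max u v)) (_ : Group Γ) (_ : Finite Γ) (σ : Γ →* G),
      Cfsg.IsStemExtension σ ∧ Nonempty (σ.ker ≃* Multiplicative A) := by
  letI := extGroup c h1 h3
  let σ : Ext c →* G := MonoidHom.mk' Ext.g fun _ _ => rfl
  have hmul : ∀ x y : Ext c, (x * y).a = x.a + y.a + c x.g y.g := fun _ _ => rfl
  have hg : ∀ x y : Ext c, (x * y).g = x.g * y.g := fun _ _ => rfl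
  have hcen : σ.ker ≤ Subgroup.center (Ext c) := fun x hx => by
    have hx' : x.g = 1 := hx
    refine Subgroup.mem_center_iff.2 fun y => Ext.ext ?_ ?_
    · rw [hmul, hmul, hx', h1, h2]; abel
    · rw [hg, hg, hx', one_mul, mul_one]
  refine ⟨Ext c, inferInstance, inferInstance, σ, ⟨fun g => ⟨⟨0, g⟩, rfl⟩, hcen, ?_⟩,
    ⟨{ toFun := fun x => Multiplicative.ofAdd x.1.a
       invFun := fun a => ⟨⟨Multiplicative.toAdd a, 1⟩, rfl⟩
       left_inv := fun x => Subtype.ext (Ext.ext rfl (Eq.symm x.2))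
       right_inv := fun a => rfl
       map_mul' := fun x y => by
        have hx : x.1.g = 1 := x.2
        show Multiplicative.ofAdd ((x : Ext c) * y).a = _
        rw [hmul, hx, h1, add_zero]
        rfl }⟩⟩
  intro z hz
  have hz' : z.g = 1 := hz
  obtain ⟨x, y, hxy, hc⟩ := hκ z.a
  have e : (⟨0, x⟩ : Ext c) * ⟨0, y⟩ = z * (⟨0, y⟩ * ⟨0, x⟩) := by
    refine Ext.ext ?_ ?_
    · rw [hmul, hmul, hmul, hg, hz', h1, hc]; abel
    · rw [hg, hg, hg, hz', one_mul, hxy]
  have hz2 : z = ⁅(⟨0, x⟩ : Ext c), (⟨0, y⟩ : Ext c)⁆ := by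
    rw [commutatorElement_def, e, mul_assoc z, mul_assoc, mul_assoc]
    group
  rw [hz2]
  exact Subgroup.commutator_mem_commutator (Subgroup.mem_top _) (Subgroup.mem_top _)

end ext

/-- The four-group is realised as the kernel of a stem extension of `Sz(8)`. -/
theorem exists_cover {F : Type u} [Field F] [Fintype F] (hF : Fintype.card F = 2 ^ (2 * 1 + 1)) :
    ∃ (Γ : Type u) (_ : Group Γ) (_ : Finite Γ) (σ : Γ →* Cfsg.Sz F 1),
      Cfsg.IsStemExtension σ ∧ Nonempty (σ.ker ≃* Multiplicative (ZMod 2 × ZMod 2)) := by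
  obtain ⟨L, hsurj, hL, -⟩ := exists_functional hF
  refine exists_stem (cor hF L) (cor_one_left hF L) (cor_one_right hF L) (cor_cocycle hF L hL)
    fun v => ?_
  obtain ⟨b, rfl⟩ := hsurj v
  refine ⟨Suzuki.U hF 0 b, Suzuki.U hF 1 0, ?_, ?_⟩
  · rw [Suzuki.U_mul, Suzuki.U_mul]; simp [Suzuki.sig_zero]
  · rw [cor_U, cor_U]
    simp [P0]

end Cfsg.Agent.Mult93.Sz8
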