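import Cfsg.Agent.KnownSimple.Multiplier.Suzuki

/-!
The condition at the prime 2 for `Sz(q)`, assuming that lifts of `Z(S)` are central in the
preimage of `S`; the proof follows helper53's for `q ≥ 32` (helper93).
-/

set_option autoImplicit false

namespace Cfsg.Agent.Mult93.Sz8

open Subgroup
open Cfsg.Agent.KnownSimple Cfsg.Agent.KnownSimple.SzMult
open scoped commutatorElement

universe u

variable {F : Type u} [Field F] [Fintype F] {m : ℕ}
variable (hF : Fintype.card F = 2 ^ (2 * m + 1))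
include hF

variable {Γ : Type u} [Group Γ] [Finite Γ]

/-- If lifts of `Z(S)` commute with lifts of `S`, the local condition at `2` holds (after helper53). -/
theorem lift_condition (h4 : Nat.card F ≠ 4) (h9 : Nat.card F ≠ 9) (σ : Γ →* Cfsg.Sz F m)
    (hσ : Function.Surjective σ) (hc : σ.ker ≤ center Γ)
    (hcomm : ∀ x y : Γ, σ x ∈ Suzuki.ZSub hF → σ y ∈ Suzuki.USub hF → ⁅x, y⁆ = 1) :
    σ.ker ⊓ ⁅(Suzuki.USub hF).comap σ, (Suzuki.USub hF).comap σ⁆ = ⊥ := by
  classical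
  let u : F → Γ := fun a => Function.surjInv hσ (Suzuki.U hF a 0)
  let z : F → Γ := fun b => Function.surjInv hσ (Suzuki.U hF 0 b)
  let t : Fˣ → Γ := fun k => Function.surjInv hσ (Suzuki.T hF k)
  have hu : ∀ a, σ (u a) = Suzuki.U hF a 0 := fun a => Function.surjInv_eq hσ _
  have hz : ∀ b, σ (z b) = Suzuki.U hF 0 b := fun b => Function.surjInv_eq hσ _
  have ht : ∀ k, σ (t k) = Suzuki.T hF k := fun k => Function.surjInv_eq hσ _
  -- general facts on commutators of lifts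
  have hcen : ∀ {x : Γ}, σ x = 1 → ∀ g : Γ, g * x = x * g := fun hx g =>
    Subgroup.mem_center_iff.1 (hc hx) g
  have hwd : ∀ {v w v' w' : Γ}, σ v = σ v' → σ w = σ w' → ⁅v, w⁆ = ⁅v', w'⁆ := by
    intro v w v' w' hv hw
    have h1 : v'⁻¹ * v ∈ center Γ := hc (by simp [MonoidHom.mem_ker, hv])
    have h2 : w'⁻¹ * w ∈ center Γ := hc (by simp [MonoidHom.mem_ker, hw])
    have := Cfsg.Agent.Schur.commutatorElement_mul_central h1 h2 v' w'
    simpa using this
  have hconjc : ∀ g v w : Γ, ⁅g * v * g⁻¹, g * w * g⁻¹⁆ = g * ⁅v, w⁆ * g⁻¹ := fun g v w => by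
    simp only [commutatorElement_def]; group
  let _ : CommGroup σ.ker :=
    { mul_comm := fun x y => Subtype.ext (Subgroup.mem_center_iff.1 (hc y.2) x) }
  have hzz : ∀ b d, ⁅z b, z d⁆ = 1 := fun b d =>
    hcomm _ _ (by rw [hz]; exact ⟨b, rfl⟩) (by rw [hz]; exact ⟨0, d, rfl⟩)
  have hzu : ∀ b a, ⁅z b, u a⁆ = 1 := fun b a =>
    hcomm _ _ (by rw [hz]; exact ⟨b, rfl⟩) (by rw [hu]; exact ⟨a, 0, rfl⟩)
  -- the abelian group `M` over `Z(S)`
  let M : Subgroup Γ := (Suzuki.ZSub hF).comap σ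
  have hM : ∀ x ∈ M, ∃ b, ∃ w : Γ, σ w = 1 ∧ x = z b * w := by
    intro x hx
    obtain ⟨b, hb⟩ : ∃ b, σ x = Suzuki.U hF 0 b := hx
    exact ⟨b, (z b)⁻¹ * x, by rw [map_mul, map_inv, hz, hb, inv_mul_cancel],
      by rw [mul_inv_cancel_left]⟩
  have hS : ∀ x ∈ (Suzuki.USub hF).comap σ, ∃ a b, ∃ w : Γ, σ w = 1 ∧ x = u a * z b * w := by
    intro x hx
    obtain ⟨a, b, hb⟩ : ∃ a b, σ x = Suzuki.U hF a b := hx
    refine ⟨a, b, (u a * z b)⁻¹ * x, ?_, by rw [mul_inv_cancel_left]⟩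
    rw [map_mul, map_inv, map_mul, hu, hz, Suzuki.U_mul]
    simp [hb]
  have hMS : ∀ x ∈ M, ∀ y ∈ (Suzuki.USub hF).comap σ, ⁅x, y⁆ = 1 := by
    intro x hx y hy
    obtain ⟨b, w, hw, rfl⟩ := hM x hx
    obtain ⟨a, d, w', hw', rfl⟩ := hS y hy
    rw [hwd (v' := z b) (w' := u a * z d) (by simp [hw]) (by simp [hw']),
      show ⁅z b, u a * z d⁆ = ⁅z b, u a⁆ * (u a * ⁅z b, z d⁆ * (u a)⁻¹) by
        simp only [commutatorElement_def]; group, hzu, hzz, one_mul, mul_one, mul_inv_cancel]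
  have hMle : M ≤ (Suzuki.USub hF).comap σ := fun x hx => by
    obtain ⟨b, hb⟩ : ∃ b, σ x = Suzuki.U hF 0 b := hx
    exact ⟨0, b, hb⟩
  let _ : CommGroup M :=
    { mul_comm := fun x y => Subtype.ext
        (commutatorElement_eq_one_iff_mul_comm.1 (hMS x x.2 y (hMle y.2))) }
  -- the commutator map
  have hCmem : ∀ a c, ⁅u a, u c⁆ ∈ M := fun a c => by
    show σ ⁅u a, u c⁆ ∈ Suzuki.ZSub hF
    rw [map_commutatorElement, hu, hu]
    exact Suzuki.commutator_U_mem hF _ _ _ _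
  have hMz : ∀ b, z b ∈ M := fun b => ⟨b, hz b⟩
  have hMk : ∀ w, σ w = 1 → w ∈ M := fun w hw => by
    show σ w ∈ Suzuki.ZSub hF
    rw [hw]; exact one_mem _
  have huS : ∀ a, u a ∈ (Suzuki.USub hF).comap σ := fun a => ⟨a, 0, hu a⟩
  have hCleft : ∀ a a' c, ⁅u (a + a'), u c⁆ = ⁅u a, u c⁆ * ⁅u a', u c⁆ := by
    intro a a' c
    rw [hwd (v' := u a * u a' * z (Suzuki.sig m a * a')) (w' := u c)
      (by rw [map_mul, map_mul, hu, hu, hu, hz, Suzuki.U_mul, Suzuki.U_mul]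
          simp [Suzuki.add_self hF]) rfl,
      show ⁅u a * u a' * z (Suzuki.sig m a * a'), u c⁆ =
        (u a * u a') * ⁅z (Suzuki.sig m a * a'), u c⁆ * (u a * u a')⁻¹ * ⁅u a * u a', u c⁆ by
        simp only [commutatorElement_def]; group,
      hMS _ (hMz _) _ (huS c), mul_one, mul_inv_cancel, one_mul,
      show ⁅u a * u a', u c⁆ = u a * ⁅u a', u c⁆ * (u a)⁻¹ * ⁅u a, u c⁆ by
        simp only [commutatorElement_def]; group,
      ← commutatorElement_eq_one_iff_mul_comm.1 (hMS _ (hCmem a' c) _ (huS a)),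
      mul_inv_cancel_right]
    exact commutatorElement_eq_one_iff_mul_comm.1 (hMS _ (hCmem a' c) _ (hMle (hCmem a c)))
  have hCright : ∀ a c c', ⁅u a, u (c + c')⁆ = ⁅u a, u c⁆ * ⁅u a, u c'⁆ := by
    intro a c c'
    rw [← _root_.inv_inj, commutatorElement_inv, hCleft, _root_.mul_inv_rev, commutatorElement_inv,
      commutatorElement_inv]
    exact commutatorElement_eq_one_iff_mul_comm.1 (hMS _ (hCmem c a) _ (hMle (hCmem c' a)))
  -- the derived subgroup
  let C : F → F → M := fun a c => ⟨⁅u a, u c⁆, hCmem a c⟩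
  let D : Subgroup M := Subgroup.closure (Set.range fun p : F × F => C p.1 p.2)
  have hle : ⁅(Suzuki.USub hF).comap σ, (Suzuki.USub hF).comap σ⁆ ≤ D.map M.subtype := by
    rw [Subgroup.commutator_le]
    intro x hx y hy
    obtain ⟨a, b, w, hw, rfl⟩ := hS x hx
    obtain ⟨c, d, w', hw', rfl⟩ := hS y hy
    refine ⟨C a c, Subgroup.subset_closure ⟨(a, c), rfl⟩, ?_⟩
    show ⁅u a, u c⁆ = _
    have e1 := hMS _ (mul_mem (hMz b) (hMk w hw))
    have e2 : ⁅u a * z b * w, u c * z d * w'⁆ =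
        u a * ⁅z b * w, u c * z d * w'⁆ * (u a)⁻¹ * ⁅u a, u c * z d * w'⁆ := by
      simp only [commutatorElement_def]; group
    have e3 : ⁅u a, u c * z d * w'⁆ = ⁅u a, u c⁆ * (u c * ⁅u a, z d * w'⁆ * (u c)⁻¹) := by
      simp only [commutatorElement_def]; group
    have e4 : ⁅u a, z d * w'⁆ = 1 := by
      rw [← _root_.inv_inj, commutatorElement_inv, inv_one]
      exact hMS _ (mul_mem (hMz d) (hMk w' hw')) _ (huS a)
    rw [e2, e1 _ hy, mul_one, mul_inv_cancel, one_mul, e3, e4, mul_one, mul_inv_cancel, mul_one]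
  -- averaging over the torus
  have hnorm : ∀ (k : Fˣ) (x : M), t k * (x : Γ) * (t k)⁻¹ ∈ M := by
    intro k x
    obtain ⟨b, hb⟩ : ∃ b, σ x = Suzuki.U hF 0 b := x.2
    exact ⟨(k : F) * Suzuki.sig m (k : F) * b, by
      rw [map_mul, map_mul, map_inv, ht, hb, Suzuki.T_conj_U, mul_zero]⟩
  let conjM : Fˣ → M →* M := fun k => MonoidHom.mk' (fun x => ⟨_, hnorm k x⟩)
    (fun x y => Subtype.ext (conj_mul).symm)
  have hcomp : ∀ (k l : Fˣ) (x : M), conjM k (conjM l x) = conjM (k * l) x := by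
    intro k l x
    refine Subtype.ext ?_
    show t k * (t l * (x : Γ) * (t l)⁻¹) * (t k)⁻¹ = t (k * l) * (x : Γ) * (t (k * l))⁻¹
    have hw : σ ((t (k * l))⁻¹ * (t k * t l)) = 1 := by simp [ht, Suzuki.T_mul]
    calc t k * (t l * (x : Γ) * (t l)⁻¹) * (t k)⁻¹
        = t (k * l) * (((t (k * l))⁻¹ * (t k * t l)) * (x : Γ) *
            ((t (k * l))⁻¹ * (t k * t l))⁻¹) * (t (k * l))⁻¹ := by group
      _ = _ := by rw [← hcen hw (x : Γ), mul_inv_cancel_right]
  let avg : M →* M :=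
    { toFun := fun x => ∏ k : Fˣ, conjM k x
      map_one' := by simp
      map_mul' := fun x y => by simp [Finset.prod_mul_distrib] }
  have havg : ∀ (l : Fˣ) (x : M), avg (conjM l x) = avg x := by
    intro l x
    show ∏ k : Fˣ, conjM k (conjM l x) = ∏ k : Fˣ, conjM k x
    simp only [hcomp]
    exact Equiv.prod_comp (Equiv.mulRight l) fun k => conjM k x
  let Φ : F →+ F →+ Additive M := AddMonoidHom.mk'
    (fun a => AddMonoidHom.mk' (fun c => Additive.ofMul (avg (C a c)))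
      fun c c' => by rw [← ofMul_mul, ← map_mul]; exact congrArg _ (congrArg _ (Subtype.ext (hCright a c c'))))
    fun a a' => by
      refine AddMonoidHom.ext fun c => ?_
      show Additive.ofMul (avg (C (a + a') c)) =
        Additive.ofMul (avg (C a c)) + Additive.ofMul (avg (C a' c))
      rw [← ofMul_mul, ← map_mul]
      exact congrArg _ (congrArg _ (Subtype.ext (hCleft a a' c)))
  have hΦ : ∀ a c, Φ a c = 0 := eq_zero_of_square_invariant Φ
    (fun a => by
      show Additive.ofMul (avg (C a a)) = 0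
      rw [show C a a = 1 from Subtype.ext (commutatorElement_self _), map_one]; rfl)
    (fun s hs a c => by
      show Additive.ofMul (avg (C (s ^ 2 * a) (s ^ 2 * c))) = Additive.ofMul (avg (C a c))
      rw [← havg (Units.mk0 (s ^ 2) (pow_ne_zero 2 hs)) (C a c)]
      refine congrArg _ (congrArg _ (Subtype.ext ?_))
      show ⁅u (s ^ 2 * a), u (s ^ 2 * c)⁆ = t _ * ⁅u a, u c⁆ * (t _)⁻¹
      rw [← hconjc]
      exact hwd (by simp [ht, hu, Suzuki.T_conj_U]) (by simp [ht, hu, Suzuki.T_conj_U]))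
    h4 h9
  have hD : ∀ x ∈ D, avg x = 1 ∧ x ^ 2 = 1 := by
    intro x hx
    induction hx using Subgroup.closure_induction with
    | mem x hx =>
      obtain ⟨⟨a, c⟩, rfl⟩ := hx
      refine ⟨congrArg Additive.toMul (hΦ a c), ?_⟩
      refine Subtype.ext ?_
      show ((C a c : M) ^ 2 : M).1 = 1
      rw [sq, Subgroup.coe_mul]
      show ⁅u a, u c⁆ * ⁅u a, u c⁆ = 1
      rw [← hCleft, Suzuki.add_self hF]
      rw [hwd (v' := 1) (w' := u c) (by rw [hu, map_one, Suzuki.U_zero]) rfl]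
      simp
    | one => simp
    | mul x y _ _ hx hy => exact ⟨by rw [map_mul, hx.1, hy.1, one_mul], by
        rw [mul_pow, hx.2, hy.2, one_mul]⟩
    | inv x _ hx => exact ⟨by rw [map_inv, hx.1, inv_one], by rw [_root_.inv_pow, hx.2, inv_one]⟩
  rw [eq_bot_iff]
  rintro x ⟨hxk, hx⟩
  obtain ⟨y, hy, rfl⟩ := hle hx
  have havgy : avg y = y ^ Fintype.card Fˣ := by
    show ∏ k : Fˣ, conjM k y = _
    rw [← Finset.card_univ, ← Finset.prod_const]
    refine Finset.prod_congr rfl fun k _ => Subtype.ext ?_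
    show t k * (y : Γ) * (t k)⁻¹ = (y : Γ)
    rw [hcen (show σ (y : Γ) = 1 from hxk) (t k)]
    exact mul_inv_cancel_right _ _
  have h2 := (hD y hy).2
  rw [(hD y hy).1] at havgy
  have hcard : Fintype.card Fˣ = 2 * (2 ^ (2 * m) - 1) + 1 := by
    rw [Fintype.card_units, hF, pow_succ]
    have : 1 ≤ 2 ^ (2 * m) := Nat.one_le_two_pow
    omega
  rw [hcard, pow_succ, pow_mul, h2, one_pow, one_mul] at havgy
  rw [Subgroup.mem_bot, ← havgy]
  rfl

end Cfsg.Agent.Mult93.Sz8
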