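import Cfsg.Agent.Mult93.Sz8Ext
import Cfsg.Agent.Mult93.Sz8Lift
import Cfsg.Agent.Mult93.Local

/-!
The multiplier of `Sz(8)` (helper93).
-/

set_option autoImplicit false
set_option maxHeartbeats 400000

namespace Cfsg.Agent.Mult93.Sz8

open Subgroup
open Cfsg.Agent
open Cfsg.Agent.KnownSimple Cfsg.Agent.KnownSimple.SzMult
open scoped commutatorElement

universe u

variable {F : Type u} [Field F] [Fintype F]
variable (hF : Fintype.card F = 2 ^ (2 * 1 + 1))
include hF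

/-- Stem extensions of `Sz(8)` have kernel a quotient of the four-group. -/
theorem exists_surjection {Γ : Type u} [Group Γ] [Finite Γ] (σ : Γ →* Cfsg.Sz F 1)
    (hσ : Cfsg.IsStemExtension σ) :
    ∃ π : Multiplicative (ZMod 2 × ZMod 2) →* σ.ker, Function.Surjective π := by
  classical
  obtain ⟨hsur, hc, hstem⟩ := hσ
  have hσ : Cfsg.IsStemExtension σ := ⟨hsur, hc, hstem⟩
  have h4 : Nat.card F ≠ 4 := by rw [Nat.card_eq_fintype_card, hF]; norm_num
  have h9 : Nat.card F ≠ 9 := by rw [Nat.card_eq_fintype_card, hF]; norm_num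
  let u : F → Γ := fun a => Function.surjInv hsur (Suzuki.U hF a 0)
  let z : F → Γ := fun b => Function.surjInv hsur (Suzuki.U hF 0 b)
  let t : Fˣ → Γ := fun k => Function.surjInv hsur (Suzuki.T hF k)
  have hu : ∀ a, σ (u a) = Suzuki.U hF a 0 := fun a => Function.surjInv_eq hsur _
  have hz : ∀ b, σ (z b) = Suzuki.U hF 0 b := fun b => Function.surjInv_eq hsur _
  have ht : ∀ k, σ (t k) = Suzuki.T hF k := fun k => Function.surjInv_eq hsur _
  have hcen : ∀ {x : Γ}, σ x = 1 → ∀ g : Γ, g * x = x * g := fun hx g =>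
    Subgroup.mem_center_iff.1 (hc hx) g
  have hwd : ∀ {v w v' w' : Γ}, σ v = σ v' → σ w = σ w' → ⁅v, w⁆ = ⁅v', w'⁆ := by
    intro v w v' w' hv hw
    have h1 : v'⁻¹ * v ∈ center Γ := hc (by simp [MonoidHom.mem_ker, hv])
    have h2 : w'⁻¹ * w ∈ center Γ := hc (by simp [MonoidHom.mem_ker, hw])
    have := Cfsg.Agent.Schur.commutatorElement_mul_central h1 h2 v' w'
    simpa using this
  let _ : CommGroup σ.ker :=
    { mul_comm := fun x y => Subtype.ext (Subgroup.mem_center_iff.1 (hc y.2) x) }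
  -- lifts of `Z(S)` commute
  have hzz : ∀ b d, ⁅z b, z d⁆ = 1 := fun b d => by
    refine comm_of_square_invariant σ hsur hc (fun b => Suzuki.U hF 0 b)
      (fun b d => ?_) (fun s hs => ?_) h4 h9 (hz b) (hz d)
    · rw [Suzuki.U_mul]; simp [Suzuki.sig_zero]
    · obtain ⟨k, hk⟩ := exists_norm_unit hF (s ^ 2) (pow_ne_zero 2 hs)
      exact ⟨Suzuki.T hF k, fun a => by rw [Suzuki.T_conj_U, mul_zero, hk]⟩
  have hmem : ∀ b a, ⁅z b, u a⁆ ∈ σ.ker := fun b a => by
    rw [MonoidHom.mem_ker, map_commutatorElement, hz, hu, commutatorElement_eq_one_iff_mul_comm,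
      Suzuki.U_mul, Suzuki.U_mul]
    simp [Suzuki.sig_zero]
  have hleft : ∀ b b' a, ⁅z (b + b'), u a⁆ = ⁅z b, u a⁆ * ⁅z b', u a⁆ := by
    intro b b' a
    rw [hwd (v' := z b * z b') (w' := u a)
        (by rw [map_mul, hz, hz, hz, Suzuki.U_mul]; simp [Suzuki.sig_zero]) rfl,
      show ⁅z b * z b', u a⁆ = z b * ⁅z b', u a⁆ * (z b)⁻¹ * ⁅z b, u a⁆ by
        simp only [commutatorElement_def]; group,
      hcen (hmem b' a) (z b), mul_inv_cancel_right]
    exact (hcen (hmem b' a) _).symm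
  let f : Multiplicative F →* σ.ker := MonoidHom.mk'
    (fun v => ⟨⁅z (Multiplicative.toAdd v), u 1⁆, hmem _ _⟩)
    (fun v w => Subtype.ext (hleft _ _ _))
  -- every commutator of this kind is a value of `f`
  have hrange : ∀ b a, (⟨⁅z b, u a⁆, hmem b a⟩ : σ.ker) ∈ f.range := by
    intro b a
    rcases eq_or_ne a 0 with rfl | ha
    · refine (congrArg (· ∈ f.range) ?_).mpr (one_mem _)
      refine Subtype.ext ?_
      show ⁅z b, u 0⁆ = 1
      rw [hwd (v' := z b) (w' := 1) rfl (by rw [hu, map_one, Suzuki.U_zero])]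
      simp
    · refine ⟨Multiplicative.ofAdd ((((Units.mk0 a ha : Fˣ) : F) * Suzuki.sig 1 a)⁻¹ * b), ?_⟩
      refine Subtype.ext ?_
      set k : Fˣ := Units.mk0 a ha with hk
      set v := ((k : F) * Suzuki.sig 1 a)⁻¹ * b with hv
      show ⁅z v, u 1⁆ = ⁅z b, u a⁆
      have hne : (k : F) * Suzuki.sig 1 a ≠ 0 := mul_ne_zero k.ne_zero (Suzuki.sig_ne_zero ha)
      rw [hwd (v := z b) (w := u a) (v' := t k * z v * (t k)⁻¹) (w' := t k * u 1 * (t k)⁻¹)
        (by rw [map_mul, map_mul, map_inv, ht, hz, hz, Suzuki.T_conj_U, mul_zero, hv]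
            rw [hk, Units.val_mk0] at hne ⊢
            rw [mul_inv_cancel_left₀ hne])
        (by rw [map_mul, map_mul, map_inv, ht, hu, hu, Suzuki.T_conj_U, mul_zero, mul_one]; simp [hk]),
        show ⁅t k * z v * (t k)⁻¹, t k * u 1 * (t k)⁻¹⁆ = t k * ⁅z v, u 1⁆ * (t k)⁻¹ by
          simp only [commutatorElement_def]; group,
        hcen (hmem v 1) (t k), mul_inv_cancel_right]
  have hf1 : f (Multiplicative.ofAdd 1) = 1 := by
    refine Subtype.ext ?_
    show ⁅z 1, u 1⁆ = 1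
    rw [hwd (v' := u 1 * u 1) (w' := u 1)
      (by rw [map_mul, hu, hz, Suzuki.U_mul]; simp [Suzuki.add_self hF, Suzuki.sig_one]) rfl,
      commutatorElement_eq_one_iff_mul_comm, mul_assoc]
  obtain ⟨L, hLsurj, hL1, hLker⟩ := exists_functional hF
  let s : ZMod 2 × ZMod 2 → F := Function.surjInv hLsurj
  have hs : ∀ v, L (s v) = v := Function.surjInv_eq hLsurj
  have hwdef : ∀ x y : F, L x = L y → f (Multiplicative.ofAdd x) = f (Multiplicative.ofAdd y) := by
    intro x y h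
    rcases hLker (x - y) (by rw [map_sub, h, sub_self]) with h0 | h0
    · rw [sub_eq_zero.1 h0]
    · rw [show x = 1 + y by rw [← h0, sub_add_cancel], ofAdd_add, map_mul, hf1, one_mul]
  let π : Multiplicative (ZMod 2 × ZMod 2) →* σ.ker := MonoidHom.mk'
    (fun v => f (Multiplicative.ofAdd (s (Multiplicative.toAdd v))))
    (fun v w => by
      rw [← map_mul, ← ofAdd_add]
      exact hwdef _ _ (by rw [map_add, hs, hs, hs]; rfl))
  have hπ : f.range ≤ π.range := by
    rintro _ ⟨v, rfl⟩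
    exact ⟨Multiplicative.ofAdd (L (Multiplicative.toAdd v)), hwdef _ _ (hs _)⟩
  refine ⟨π, ?_⟩
  -- the quotient by the values of `f`
  let K : Subgroup Γ := f.range.map σ.ker.subtype
  have hKker : K ≤ σ.ker := Subgroup.map_subtype_le _
  haveI : K.Normal := ⟨fun k hk g => by rwa [hcen (hKker hk) g, mul_inv_cancel_right]⟩
  let σ' : Γ ⧸ K →* Cfsg.Sz F 1 := QuotientGroup.lift K σ hKker
  have hσ'mk : ∀ x : Γ, σ' (QuotientGroup.mk' K x) = σ x := fun x => rfl
  have hc' : σ'.ker ≤ center (Γ ⧸ K) := by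
    intro x hx
    obtain ⟨x, rfl⟩ := QuotientGroup.mk'_surjective K x
    refine Subgroup.mem_center_iff.2 fun y => ?_
    obtain ⟨y, rfl⟩ := QuotientGroup.mk'_surjective K y
    rw [← map_mul, ← map_mul, hcen ((hσ'mk x).symm.trans hx) y]
  have hcond : σ'.ker ⊓ ⁅(Suzuki.USub hF).comap σ', (Suzuki.USub hF).comap σ'⁆ = ⊥ := by
    refine lift_condition hF h4 h9 σ'
      (fun g => (hsur g).elim fun x hx => ⟨QuotientGroup.mk' K x, hx⟩) hc' fun x y hx hy => ?_
    obtain ⟨x, rfl⟩ := QuotientGroup.mk'_surjective K x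
    obtain ⟨y, rfl⟩ := QuotientGroup.mk'_surjective K y
    obtain ⟨b, hb⟩ : ∃ b, σ x = Suzuki.U hF 0 b := hx
    obtain ⟨a, d, had⟩ : ∃ a d, σ y = Suzuki.U hF a d := hy
    rw [← map_commutatorElement]
    refine (QuotientGroup.eq_one_iff _).2 ?_
    rw [hwd (v' := z b) (w' := u a * z d) (by rw [hb, hz])
        (by rw [had, map_mul, hu, hz, Suzuki.U_mul]; simp),
      show ⁅z b, u a * z d⁆ = ⁅z b, u a⁆ * (u a * ⁅z b, z d⁆ * (u a)⁻¹) by
        simp only [commutatorElement_def]; group,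
      hzz, mul_one, mul_inv_cancel, mul_one]
    exact ⟨_, hrange b a, rfl⟩
  have hK : ∀ x ∈ σ.ker ⊓ ⁅(Suzuki.USub hF).comap σ, (Suzuki.USub hF).comap σ⁆, x ∈ K := by
    rintro x ⟨hx, hx'⟩
    have h1 : QuotientGroup.mk' K x ∈ σ'.ker ⊓
        ⁅(Suzuki.USub hF).comap σ', (Suzuki.USub hF).comap σ'⁆ := by
      refine ⟨hx, ?_⟩
      have hle : ((Suzuki.USub hF).comap σ).map (QuotientGroup.mk' K) ≤
          (Suzuki.USub hF).comap σ' := by
        rintro _ ⟨y, hy, rfl⟩; exact hy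
      exact Subgroup.commutator_mono hle hle
        (Subgroup.map_commutator _ _ (QuotientGroup.mk' K) ▸ Subgroup.mem_map_of_mem _ hx')
    rw [hcond, Subgroup.mem_bot] at h1
    exact (QuotientGroup.eq_one_iff x).1 h1
  -- the kernel is a 2-group
  have hodd : ∀ ℓ : ℕ, ℓ.Prime → ℓ ≠ 2 → ¬ ℓ ∣ Nat.card σ.ker := by
    intro ℓ hℓ h2
    haveI := Fact.mk hℓ
    let P : Sylow ℓ (Cfsg.Sz F 1) := default
    haveI : IsCyclic (P : Subgroup (Cfsg.Sz F 1)) := Suzuki.sylow_odd_isCyclic hF le_rfl h2 P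
    have hbot : σ.ker ⊓ ⁅(P : Subgroup (Cfsg.Sz F 1)).comap σ,
        (P : Subgroup (Cfsg.Sz F 1)).comap σ⁆ = ⊥ :=
      inf_commutator_eq_bot_of_comm σ _ fun x hx y hy =>
        comm_of_cyclic σ hc (P : Subgroup (Cfsg.Sz F 1)) hsur hx hy
    have h := Mult93.card_ker_dvd σ hσ ℓ (P : Subgroup (Cfsg.Sz F 1)) P.not_dvd_index 0
      (by rw [hbot, Subgroup.card_bot, zero_add, pow_one]; exact hℓ.one_lt)
    rw [zero_add, pow_one] at h
    exact h
  have hcop : (Nat.card σ.ker).Coprime (Suzuki.USub hF).index := by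
    refine Nat.coprime_of_dvd fun q hq h1 h2 => ?_
    rcases eq_or_ne q 2 with rfl | hne
    · exact Suzuki.index_USub_odd hF le_rfl h2
    · exact hodd q hq hne h1
  intro y
  obtain ⟨x, hx⟩ := (powCoprime hcop).surjective y
  have hx' : (x : Γ) ^ (Suzuki.USub hF).index = (y : Γ) := congrArg Subtype.val hx
  have hmem : (y : Γ) ∈ ⁅(Suzuki.USub hF).comap σ, (Suzuki.USub hF).comap σ⁆ := by
    have h := Cfsg.Agent.Schur.pow_index_mem_commutator ((Suzuki.USub hF).comap σ) (hc x.2)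
      (hstem x.2)
    rwa [Subgroup.map_subtype_commutator, Subgroup.index_comap_of_surjective _ hsur, hx'] at h
  obtain ⟨v, hv, hvy⟩ := hK _ ⟨y.2, hmem⟩
  obtain ⟨w, hw⟩ := hπ hv
  exact ⟨w, hw.trans (Subtype.ext hvy)⟩

/-- **The Schur multiplier of `Sz(8)` is a four-group.** -/
theorem multiplier : Cfsg.HasSchurMultiplier (Cfsg.Sz F 1) (Multiplicative (ZMod 2 × ZMod 2)) :=
  ⟨exists_cover hF, fun _ _ _ σ hσ => exists_surjection hF σ hσ⟩

end Cfsg.Agent.Mult93.Sz8
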