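import Cfsg.Agent.Lib.Suzuki.Sylow
import Mathlib.LinearAlgebra.FiniteDimensional.Basic
import Mathlib.Algebra.Field.ZMod
import Mathlib.RingTheory.LocalRing.Basic

/-!
A cocycle on the Borel subgroup of `Sz(8)` with values in the four-group, and its corestriction
(helper93).
-/

set_option autoImplicit false

namespace Cfsg.Agent.Mult93.Sz8

open Cfsg.Agent

/-- The four-group, written additively. -/
abbrev V4 : Type := ZMod 2 × ZMod 2

theorem V4_add_self (v : V4) : v + v = 0 := by revert v; decide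

variable {F : Type*} [Field F] [Fintype F] (hF : Fintype.card F = 2 ^ (2 * 1 + 1))
include hF

theorem pow_eight (x : F) : x ^ 8 = x := by
  have h := FiniteField.pow_card x
  rwa [hF] at h

theorem sig_eq (x : F) : Suzuki.sig 1 x = x ^ 4 := by
  simp [Suzuki.sig]

theorem exists_functional : ∃ L : F →+ V4, Function.Surjective L ∧ L 1 = 0 ∧
    ∀ x, L x = 0 → x = 0 ∨ x = 1 := by
  haveI : CharP F 2 := Suzuki.charP_two hF
  letI : Algebra (ZMod 2) F := ZMod.algebra F 2
  let K : Submodule (ZMod 2) F := Submodule.span (ZMod 2) {(1 : F)}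
  have hK : Module.finrank (ZMod 2) K = 1 := finrank_span_singleton one_ne_zero
  have hFr : Module.finrank (ZMod 2) F = 3 := by
    have h := Module.card_eq_pow_finrank (K := ZMod 2) (V := F)
    rw [ZMod.card, hF] at h
    exact (Nat.pow_right_injective le_rfl h).symm
  have hQ : Module.finrank (ZMod 2) (F ⧸ K) = Module.finrank (ZMod 2) V4 := by
    have h := K.finrank_quotient_add_finrank
    rw [hK, hFr] at h
    rw [Module.finrank_prod, Module.finrank_self]
    omega
  let e : (F ⧸ K) ≃ₗ[ZMod 2] V4 := LinearEquiv.ofFinrankEq _ _ hQ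
  refine ⟨(e.toLinearMap.comp K.mkQ).toAddMonoidHom,
    e.surjective.comp K.mkQ_surjective, ?_, fun x hx => ?_⟩
  · show e (K.mkQ 1) = 0
    rw [Submodule.mkQ_apply, (Submodule.Quotient.mk_eq_zero K).2 (Submodule.mem_span_singleton_self _),
      map_zero]
  · have : K.mkQ x = 0 := e.map_eq_zero_iff.1 hx
    obtain ⟨c, rfl⟩ := Submodule.mem_span_singleton.1 ((Submodule.Quotient.mk_eq_zero K).1 this)
    have hc : ∀ c : ZMod 2, c = 0 ∨ c = 1 := by decide
    rcases hc c with rfl | rfl
    · left; simp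
    · right; simp

omit hF in
/-- The polynomial part of the cocycle on `S`. -/
def P0 (a b a' : F) : F := b * a' ^ 2 + a ^ 3 * a' ^ 4 + a ^ 2 * a' ^ 5

theorem P0_scale (k : F) (hk : k ≠ 0) (a b a' : F) :
    P0 (k * a) (k * Suzuki.sig 1 k * b) (k * a') = P0 a b a' := by
  have h7 : k ^ 7 = 1 := by
    refine mul_right_cancel₀ hk ?_
    rw [← pow_succ, one_mul]; exact pow_eight hF k
  rw [sig_eq hF, P0, P0]
  linear_combination (b * a' ^ 2 + a ^ 3 * a' ^ 4 + a ^ 2 * a' ^ 5) * h7

theorem exists_P0_defect (a b a' b' a'' : F) :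
    ∃ t : F, (t = 0 ∨ t = 1) ∧
      P0 a b a' + P0 (a + a') (b + b' + Suzuki.sig 1 a * a') a'' +
        P0 a b (a' + a'') + P0 a' b' a'' = t := by
  refine ⟨_, ?_, rfl⟩
  have h2 : (2 : F) = 0 := Suzuki.two_eq_zero hF
  have hx := pow_eight hF a
  have hy := pow_eight hF a'
  have hz := pow_eight hF a''
  set s := a ^ 4 * a' * a'' ^ 2 with hs
  have hexp : P0 a b a' + P0 (a + a') (b + b' + Suzuki.sig 1 a * a') a'' +
      P0 a b (a' + a'') + P0 a' b' a'' = s + s ^ 2 + s ^ 4 := by
    have e2 : s ^ 2 = a * a' ^ 2 * a'' ^ 4 := by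
      rw [hs]; linear_combination (a' ^ 2 * a'' ^ 4) * hx
    have e4 : s ^ 4 = a ^ 2 * a' ^ 4 * a'' := by
      rw [hs, show (a ^ 4 * a' * a'' ^ 2) ^ 4 = (a ^ 8) ^ 2 * a' ^ 4 * a'' ^ 8 by ring, hx, hz]
    rw [e2, e4, hs, sig_eq hF]
    simp only [P0]
    ring_nf
    simp only [h2, mul_zero, zero_mul, add_zero, zero_add, show (3 : F) = 1 by linear_combination h2,
      show (4 : F) = 0 by linear_combination 2 * h2, show (5 : F) = 1 by linear_combination 2 * h2,
      show (6 : F) = 0 by linear_combination 3 * h2, show (8 : F) = 0 by linear_combination 4 * h2, show (10 : F) = 0 by linear_combination 5 * h2,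
      mul_one]
  rw [hexp]
  have hsq : (s + s ^ 2 + s ^ 4) ^ 2 = s + s ^ 2 + s ^ 4 := by
    linear_combination (s ^ 3 + s ^ 5 + s ^ 6) * h2 + pow_eight hF s
  have h01 : (s + s ^ 2 + s ^ 4) * (s + s ^ 2 + s ^ 4 - 1) = 0 := by linear_combination hsq
  rcases mul_eq_zero.1 h01 with h | h
  · exact Or.inl h
  · exact Or.inr (sub_eq_zero.1 h)

variable (L : F →+ V4) (hL : L 1 = 0)

omit hF in
/-- The cocycle on the Borel subgroup, in coordinates. -/
def c0 (p q : (F × F) × Fˣ) : V4 := L (P0 p.1.1 p.1.2 ((p.2 : F) * q.1.1))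

omit hF in
/-- Multiplication of the Borel subgroup in coordinates. -/
def bmul (p q : (F × F) × Fˣ) : (F × F) × Fˣ :=
  ((p.1.1 + (p.2 : F) * q.1.1,
    p.1.2 + (p.2 : F) * Suzuki.sig 1 (p.2 : F) * q.1.2 + Suzuki.sig 1 p.1.1 * ((p.2 : F) * q.1.1)),
   p.2 * q.2)

include hL in
theorem c0_cocycle (p q r : (F × F) × Fˣ) :
    c0 L p q + c0 L (bmul p q) r = c0 L p (bmul q r) + c0 L q r := by
  obtain ⟨⟨a, b⟩, k⟩ := p
  obtain ⟨⟨a', b'⟩, l⟩ := q
  obtain ⟨⟨a'', b''⟩, n⟩ := r
  simp only [c0, bmul, Units.val_mul]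
  rw [← P0_scale hF (k : F) k.ne_zero a' b' ((l : F) * a''), mul_add, ← mul_assoc (k : F) (l : F)]
  obtain ⟨t, ht, e⟩ := exists_P0_defect hF a b ((k : F) * a')
    ((k : F) * Suzuki.sig 1 (k : F) * b') ((k : F) * (l : F) * a'')
  have hLt : L t = 0 := by rcases ht with rfl | rfl; exacts [map_zero L, hL]
  have h := congrArg L e
  rw [hLt, map_add, map_add, map_add] at h
  have key : ∀ u v w x : V4, u + v + w + x = 0 → u + v = w + x := by
    intro u v w x h
    calc u + v = u + v + ((w + x) + (w + x)) := by rw [V4_add_self, add_zero]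
      _ = (u + v + w + x) + (w + x) := by abel
      _ = w + x := by rw [h, zero_add]
  exact key _ _ _ _ h

theorem map_bmul (p q : (F × F) × Fˣ) :
    Suzuki.U hF (bmul p q).1.1 (bmul p q).1.2 * Suzuki.T hF (bmul p q).2 =
      Suzuki.U hF p.1.1 p.1.2 * Suzuki.T hF p.2 *
        (Suzuki.U hF q.1.1 q.1.2 * Suzuki.T hF q.2) := by
  rw [mul_assoc, ← mul_assoc (Suzuki.T hF p.2), Suzuki.T_mul_U, mul_assoc, ← Suzuki.T_mul,
    ← mul_assoc, Suzuki.U_mul]
  rfl

/-- Coordinates on the stabilizer of `∞`. -/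
noncomputable def co (g : MulAction.stabilizer (Cfsg.Sz F 1) (Cfsg.suzukiPointInfinity F)) :
    (F × F) × Fˣ :=
  (Suzuki.stabEquiv hF le_rfl).symm g

theorem co_spec (g : MulAction.stabilizer (Cfsg.Sz F 1) (Cfsg.suzukiPointInfinity F)) :
    Suzuki.U hF (co hF g).1.1 (co hF g).1.2 * Suzuki.T hF (co hF g).2 = (g : Cfsg.Sz F 1) :=
  congrArg Subtype.val ((Suzuki.stabEquiv hF le_rfl).apply_symm_apply g)

theorem co_eq {g : MulAction.stabilizer (Cfsg.Sz F 1) (Cfsg.suzukiPointInfinity F)}
    {a b : F} {k : Fˣ} (h : Suzuki.U hF a b * Suzuki.T hF k = (g : Cfsg.Sz F 1)) :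
    co hF g = ((a, b), k) := by
  obtain ⟨h1, h2, h3⟩ := Suzuki.U_T_inj hF ((co_spec hF g).trans h.symm)
  exact Prod.ext (Prod.ext h1 h2) h3

theorem co_mul (g h : MulAction.stabilizer (Cfsg.Sz F 1) (Cfsg.suzukiPointInfinity F)) :
    co hF (g * h) = bmul (co hF g) (co hF h) := by
  refine co_eq hF ((map_bmul hF _ _).trans ?_)
  rw [co_spec, co_spec]
  rfl

theorem co_one : co hF 1 = ((0, 0), 1) := by
  refine co_eq hF ?_
  rw [Suzuki.U_zero, Suzuki.T_one, one_mul]; rfl

/-- Representatives moving `∞` to the points of the ovoid. -/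
noncomputable def sect : Option (F × F) → Cfsg.Sz F 1
  | none => 1
  | some (x, y) => Suzuki.U hF x y * Suzuki.W hF

omit hF in
/-- The point of the ovoid with given label. -/
def point : Option (F × F) → Projectivization F (Fin 4 → F)
  | none => Cfsg.suzukiPointInfinity F
  | some (x, y) => Suzuki.pt 1 x y

theorem sect_smul : ∀ o : Option (F × F), sect hF o • Cfsg.suzukiPointInfinity F = point o
  | none => one_smul _ _
  | some (x, y) => by
    show (Suzuki.U hF x y * Suzuki.W hF) • _ = _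
    rw [mul_smul, Suzuki.W_smul_inf, Suzuki.U_smul_zero]; rfl

omit hF in
theorem point_mem : ∀ o : Option (F × F), point o ∈ Cfsg.suzukiOvoid F 1
  | none => Suzuki.inf_mem_ovoid
  | some (x, y) => Suzuki.pt_mem_ovoid x y

theorem exists_perm (g : Cfsg.Sz F 1) (o : Option (F × F)) :
    ∃ o', point o' = g • (point o : Projectivization F (Fin 4 → F)) := by
  rcases Suzuki.mem_ovoid.1 (Suzuki.smul_mem_ovoid g (point_mem o)) with h | ⟨x, y, h⟩
  · exact ⟨none, h.symm⟩
  · exact ⟨some (x, y), h.symm⟩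

/-- The action on labels. -/
noncomputable def act (g : Cfsg.Sz F 1) (o : Option (F × F)) : Option (F × F) :=
  (exists_perm hF g o).choose

theorem point_act (g : Cfsg.Sz F 1) (o : Option (F × F)) : point (act hF g o) = g • point o :=
  (exists_perm hF g o).choose_spec

omit hF in
theorem point_injective : Function.Injective (point (F := F))
  | none, none, _ => rfl
  | some (x, y), none, h => absurd h (Suzuki.pt_ne_inf x y)
  | none, some (x, y), h => absurd h.symm (Suzuki.pt_ne_inf x y)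
  | some (x, y), some (x', y'), h => by
    obtain ⟨h1, h2⟩ := Suzuki.pt_inj h
    rw [h1, h2]

theorem act_mul (g h : Cfsg.Sz F 1) (o : Option (F × F)) :
    act hF (g * h) o = act hF g (act hF h o) :=
  point_injective (by rw [point_act, point_act, point_act, mul_smul])

theorem act_one (o : Option (F × F)) : act hF 1 o = o :=
  point_injective (by rw [point_act, one_smul])

theorem act_bijective (g : Cfsg.Sz F 1) : Function.Bijective (act hF g) :=
  ⟨fun o o' h => by
    have := congrArg (act hF g⁻¹) h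
    rwa [← act_mul, ← act_mul, inv_mul_cancel, act_one, act_one] at this,
   fun o => ⟨act hF g⁻¹ o, by rw [← act_mul, mul_inv_cancel, act_one]⟩⟩

/-- The transfer components. -/
noncomputable def tau (g : Cfsg.Sz F 1) (o : Option (F × F)) :
    MulAction.stabilizer (Cfsg.Sz F 1) (Cfsg.suzukiPointInfinity F) :=
  ⟨(sect hF (act hF g o))⁻¹ * g * sect hF o, by
    rw [MulAction.mem_stabilizer_iff, mul_smul, mul_smul, sect_smul hF, ← point_act hF,
      ← sect_smul hF,
      inv_smul_smul]⟩

theorem tau_mul (g h : Cfsg.Sz F 1) (o : Option (F × F)) :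
    tau hF (g * h) o = tau hF g (act hF h o) * tau hF h o := by
  refine Subtype.ext ?_
  show _ = (sect hF (act hF g (act hF h o)))⁻¹ * g * sect hF (act hF h o) *
    ((sect hF (act hF h o))⁻¹ * h * sect hF o)
  show (sect hF (act hF (g * h) o))⁻¹ * (g * h) * sect hF o = _
  rw [act_mul]
  group

theorem tau_one (o : Option (F × F)) : tau hF 1 o = 1 :=
  Subtype.ext (show (sect hF (act hF 1 o))⁻¹ * 1 * sect hF o = 1 by
    rw [act_one, mul_one, inv_mul_cancel])

/-- The corestricted cocycle. -/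
noncomputable def cor (g h : Cfsg.Sz F 1) : V4 :=
  ∑ o : Option (F × F), c0 L (co hF (tau hF g (act hF h o))) (co hF (tau hF h o))

include hL in
theorem cor_cocycle (g h k : Cfsg.Sz F 1) :
    cor hF L g h + cor hF L (g * h) k = cor hF L g (h * k) + cor hF L h k := by
  have e : cor hF L g h = ∑ o : Option (F × F),
      c0 L (co hF (tau hF g (act hF h (act hF k o)))) (co hF (tau hF h (act hF k o))) :=
    ((Equiv.ofBijective _ (act_bijective hF k)).sum_comp
      (fun o => c0 L (co hF (tau hF g (act hF h o))) (co hF (tau hF h o)))).symm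
  rw [e]
  simp only [cor, ← Finset.sum_add_distrib]
  refine Finset.sum_congr rfl fun o _ => ?_
  rw [tau_mul hF g h, tau_mul hF h k, act_mul, co_mul, co_mul]
  exact c0_cocycle hF L hL _ _ _

theorem cor_one_left (h : Cfsg.Sz F 1) : cor hF L 1 h = 0 :=
  Finset.sum_eq_zero fun o _ => by
    rw [tau_one, co_one, c0, P0]; simp

theorem cor_one_right (g : Cfsg.Sz F 1) : cor hF L g 1 = 0 :=
  Finset.sum_eq_zero fun o _ => by
    rw [tau_one, co_one, c0, P0]; simp

/-- On `S` the corestriction is the cocycle itself. -/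
theorem cor_U (a b c d : F) :
    cor hF L (Suzuki.U hF a b) (Suzuki.U hF c d) = L (P0 a b c) := by
  have hsome : ∀ (a b x y : F), tau hF (Suzuki.U hF a b) (some (x, y)) = 1 := by
    intro a b x y
    have hact : act hF (Suzuki.U hF a b) (some (x, y)) =
        some (a + x, b + y + Suzuki.sig 1 a * x) := point_injective (by
      rw [point_act]
      show Suzuki.U hF a b • Suzuki.pt 1 x y = Suzuki.pt 1 _ _
      rw [← Suzuki.U_smul_zero hF x y, ← mul_smul, Suzuki.U_mul, Suzuki.U_smul_zero])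
    refine Subtype.ext ?_
    show (sect hF (act hF (Suzuki.U hF a b) (some (x, y))))⁻¹ * Suzuki.U hF a b *
      sect hF (some (x, y)) = 1
    rw [hact]
    show (Suzuki.U hF _ _ * Suzuki.W hF)⁻¹ * Suzuki.U hF a b * (Suzuki.U hF x y * Suzuki.W hF) = 1
    rw [mul_assoc, ← mul_assoc (Suzuki.U hF a b), Suzuki.U_mul, inv_mul_cancel]
  have hnone : ∀ a b : F, act hF (Suzuki.U hF a b) none = none := fun a b =>
    point_injective (by rw [point_act]; exact Suzuki.U_smul_inf hF a b)
  have hco : ∀ a b : F, co hF (tau hF (Suzuki.U hF a b) none) = ((a, b), 1) := fun a b => by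
    refine co_eq hF ?_
    show _ = (sect hF (act hF (Suzuki.U hF a b) none))⁻¹ * Suzuki.U hF a b * sect hF none
    rw [hnone, Suzuki.T_one]
    simp [sect]
  rw [cor, Fintype.sum_option, Finset.sum_eq_zero, add_zero, hnone, hco, hco, c0]
  · simp
  · rintro ⟨x, y⟩ -
    rw [hsome c d, co_one, c0, P0]
    simp

end Cfsg.Agent.Mult93.Sz8
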